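import Groth.Agent.NLKillLib.Basic
import Groth.Agent.TransLib.Conormal
import Groth.Agent.KRLib.Ideal
import Groth.Prelude.Def_LCI2

/-!
The naive cotangent complex computed from a presentation with Koszul-regular kernel.
-/

set_option autoImplicit false
universe u

open CategoryTheory CategoryTheory.Limits KoszDetLib

attribute [local instance] HasDerivedCategory.standard

namespace NLPerfLib

section Conormal

variable {R S : Type u} [CommRing R] [CommRing S] [Algebra R S] (P : Algebra.Extension.{u} R S)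

theorem algebraMap_eq_zero_iff (x : P.Ring) : algebraMap P.Ring S x = 0 ↔ x ∈ P.ker :=
  RingHom.mem_ker.symm

/-- The conormal module of a presentation with Koszul-regular kernel is finite projective. -/
theorem projective_cotangent (h : LCI.IsKoszulRegularIdeal P.ker) :
    Module.Finite S P.Cotangent ∧ Module.Projective S P.Cotangent := by
  classical
  rw [← KRLib.locKR_iff] at h
  let G : Set S := {a | ∃ c : ℕ,
    Nonempty ((Fin c → Localization.Away a) ≃ₗ[Localization.Away a] LocalizedModule.Away a P.Cotangent)}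
  refine TransLib.projective_of_locally_free G ?_ fun a ha => ha
  by_contra hne
  obtain ⟨Mx, hMx, hle⟩ := Ideal.exists_le_maximal _ hne
  have := hMx.isPrime
  have hIq : P.ker ≤ Mx.comap (algebraMap P.Ring S) := fun x hx => by
    rw [Ideal.mem_comap, (algebraMap_eq_zero_iff P x).2 hx]
    exact zero_mem _
  obtain ⟨g, hg, m, F, hF, hspan⟩ := h (Mx.comap (algebraMap P.Ring S)) inferInstance hIq
  let L := Localization.Away g
  -- numerators
  have hnum : ∀ i, ∃ x ∈ P.ker, ∃ k : ℕ, F i * algebraMap P.Ring L (g ^ k) = algebraMap P.Ring L x :=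
    fun i => by
      have h1 : F i ∈ P.ker.map (algebraMap P.Ring L) := hspan ▸ Ideal.subset_span ⟨i, rfl⟩
      obtain ⟨⟨x, ⟨_, k, rfl⟩⟩, hx⟩ :=
        (IsLocalization.mem_map_algebraMap_iff (Submonoid.powers g) L).1 h1
      exact ⟨x, x.2, k, hx⟩
  choose x hxI k hk using hnum
  let N := ∑ i, k i
  let uN : Lˣ := ((IsLocalization.Away.algebraMap_isUnit (S := L) g).pow N).unit
  let f : Fin m → P.Ring := fun i => x i * g ^ (N - k i)
  have hfI : ∀ i, f i ∈ P.ker := fun i => P.ker.mul_mem_right _ (hxI i)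
  have hfF : (fun i => algebraMap P.Ring L (f i)) = (uN : L) • F := funext fun i => by
    have hle : k i ≤ N := Finset.single_le_sum (fun j _ => Nat.zero_le (k j)) (Finset.mem_univ i)
    show algebraMap P.Ring L (x i * g ^ (N - k i)) = (algebraMap P.Ring L g) ^ N * F i
    rw [map_mul, map_pow, ← hk, map_pow, mul_assoc, ← pow_add, Nat.add_sub_cancel' hle, mul_comm]
  have hfe : IsExactK fun i => algebraMap P.Ring L (f i) := hfF ▸ TransLib.isExactK_smul hF uN
  have hfspan : Ideal.span (Set.range fun i => algebraMap P.Ring L (f i)) =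
      P.ker.map (algebraMap P.Ring L) := by
    refine le_antisymm (Ideal.span_le.2 ?_) ?_
    · rintro _ ⟨i, rfl⟩
      exact Ideal.mem_map_of_mem _ (hfI i)
    · rw [← hspan, Ideal.span_le]
      rintro _ ⟨i, rfl⟩
      have hFi : F i = ((uN⁻¹ : Lˣ) : L) * algebraMap P.Ring L (f i) := by
        rw [congrFun hfF i, Pi.smul_apply, smul_eq_mul, ← mul_assoc, Units.inv_mul, one_mul]
      rw [hFi]
      exact Ideal.mul_mem_left _ _ (Ideal.subset_span ⟨i, rfl⟩)
  let v : Fin m → P.Cotangent := fun i => Algebra.Extension.Cotangent.mk ⟨f i, hfI i⟩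
  let a : S := algebraMap P.Ring S g
  have hv : ∀ (r : Fin m → P.Ring), (∑ i, algebraMap P.Ring S (r i) • v i) =
      Algebra.Extension.Cotangent.mk (∑ i, r i • (⟨f i, hfI i⟩ : P.ker)) := fun r => by
    rw [map_sum]
    exact Finset.sum_congr rfl fun i _ => by rw [map_smul, algebraMap_smul]
  refine (inferInstance : Mx.IsPrime).ne_top ?_
  suffices hgood : a ∈ G from absurd (hle (Ideal.subset_span hgood)) hg
  refine ⟨m, TransLib.nonempty_away_equiv_of_generators a v ?_ ?_⟩
  · intro z
    obtain ⟨⟨y, hy⟩, rfl⟩ := Algebra.Extension.Cotangent.mk_surjective z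
    have h1 : algebraMap P.Ring L y ∈ (Ideal.span (Set.range f)).map (algebraMap P.Ring L) := by
      rw [Ideal.map_span, ← Set.range_comp]
      exact hfspan.ge (Ideal.mem_map_of_mem _ hy)
    obtain ⟨_, ⟨k₀, rfl⟩, hs⟩ :=
      (IsLocalization.algebraMap_mem_map_algebraMap_iff (Submonoid.powers g) L _ _).1 h1
    obtain ⟨r, hr⟩ := Ideal.mem_span_range_iff_exists_fun.1 hs
    refine ⟨k₀, fun i => algebraMap P.Ring S (r i), ?_⟩
    rw [hv r, ← map_pow, algebraMap_smul, ← map_smul]
    congr 1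
    refine Subtype.ext ?_
    rw [Submodule.coe_sum]
    exact hr.symm
  · intro α hα
    choose r hr using fun i => P.algebraMap_surjective (α i)
    simp only [← hr, hv r, Algebra.Extension.Cotangent.mk_eq_zero_iff, Submodule.coe_sum] at hα
    let J := Ideal.span (Set.range fun i => algebraMap P.Ring L (f i))
    have h4 : ∑ i, algebraMap P.Ring L (r i) * algebraMap P.Ring L (f i) ∈ J ^ 2 := by
      rw [show J = P.ker.map (algebraMap P.Ring L) from hfspan, ← Ideal.map_pow]
      simp only [← map_mul, ← map_sum]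
      exact Ideal.mem_map_of_mem _ hα
    have hli := Fintype.linearIndependent_iff.1 (TransLib.cotangent_basis_of_isExactK _ hfe).1
      (fun i => Ideal.Quotient.mk J (algebraMap P.Ring L (r i))) (by
        refine Eq.trans (Finset.sum_congr rfl fun i _ =>
          (map_smul (Ideal.span (Set.range fun i => algebraMap P.Ring L (f i))).toCotangent
            (algebraMap P.Ring L (r i))
            ⟨algebraMap P.Ring L (f i), Ideal.subset_span ⟨i, rfl⟩⟩).symm) ?_
        rw [← map_sum, Ideal.toCotangent_eq_zero, AddSubmonoidClass.coe_finsetSum]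
        exact h4)
    have h5 : ∀ i, ∃ k₂ : ℕ, a ^ k₂ * α i = 0 := fun i => by
      have h6 : algebraMap P.Ring L (r i) ∈ P.ker.map (algebraMap P.Ring L) :=
        hfspan.le (Ideal.Quotient.eq_zero_iff_mem.1 (hli i))
      obtain ⟨_, ⟨k₂, rfl⟩, hk₂⟩ :=
        (IsLocalization.algebraMap_mem_map_algebraMap_iff (Submonoid.powers g) L _ _).1 h6
      refine ⟨k₂, ?_⟩
      rw [← hr i, ← map_pow, ← map_mul]
      exact (algebraMap_eq_zero_iff P _).2 hk₂
    choose k₂ hk₂ using h5
    refine ⟨∑ i, k₂ i, fun i => ?_⟩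
    obtain ⟨t, ht⟩ := Nat.le.dest (Finset.single_le_sum (fun j _ => Nat.zero_le (k₂ j)) (Finset.mem_univ i))
    rw [← ht, add_comm, pow_add, mul_assoc, hk₂ i, mul_zero]

end Conormal

section Homotopy

open NLKillLib

variable {B : Type u} [CommRing B] {X Y X' Y' : ModuleCat.{u} B} {f : X ⟶ Y} {f' : X' ⟶ Y'}

/-- A map of two-term complexes. -/
noncomputable def mapTwo (u₀ : X ⟶ X') (u₁ : Y ⟶ Y') (w : u₀ ≫ f' = f ≫ u₁) : two f ⟶ two f' :=
  HomologicalComplex.mkHomFromDouble _ (by decide) (u₀ ≫ (e₀ f').inv) (u₁ ≫ (e₁ f').inv)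
    (by rw [d_eq, Category.assoc, Iso.inv_hom_id_assoc, reassoc_of% w])
    (fun k _ => by rw [d_zero_right, comp_zero])

theorem mapTwo_f_neg_one (u₀ : X ⟶ X') (u₁ : Y ⟶ Y') (w : u₀ ≫ f' = f ≫ u₁) :
    (mapTwo u₀ u₁ w).f (-1) = (e₀ f).hom ≫ u₀ ≫ (e₀ f').inv :=
  HomologicalComplex.mkHomFromDouble_f₀ _ _ _ _ _ _

theorem mapTwo_f_zero (u₀ : X ⟶ X') (u₁ : Y ⟶ Y') (w : u₀ ≫ f' = f ≫ u₁) :
    (mapTwo u₀ u₁ w).f 0 = (e₁ f).hom ≫ u₁ ≫ (e₁ f').inv :=
  HomologicalComplex.mkHomFromDouble_f₁ _ _ _ _ _ _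

theorem toD_comp_eq_id {u₀ : X ⟶ X'} {u₁ : Y ⟶ Y'} (w : u₀ ≫ f' = f ≫ u₁) {v₀ : X' ⟶ X} {v₁ : Y' ⟶ Y}
    (w' : v₀ ≫ f = f' ≫ v₁) (s : Y ⟶ X) (h₀ : 𝟙 X - u₀ ≫ v₀ = f ≫ s) (h₁ : 𝟙 Y - u₁ ≫ v₁ = s ≫ f) :
    DerivedCategory.Q.map (mapTwo u₀ u₁ w) ≫ DerivedCategory.Q.map (mapTwo v₀ v₁ w') = 𝟙 _ := by
  have : 𝟙 (two f) - mapTwo u₀ u₁ w ≫ mapTwo v₀ v₁ w' = Homotopy.nullHomotopicMap (hom f s) := by
    refine HomologicalComplex.to_double_hom_ext ?_ ?_
    · rw [nullMap_f_neg_one, ← h₀]
      simp [mapTwo_f_neg_one, Preadditive.sub_comp, Preadditive.comp_sub]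
    · rw [nullMap_f_zero, ← h₁]
      simp [mapTwo_f_zero, Preadditive.sub_comp, Preadditive.comp_sub]
  have h2 := congrArg (DerivedCategory.Q (C := ModuleCat.{u} B)).map this
  rw [Q_nullMap, CategoryTheory.Functor.map_sub, CategoryTheory.Functor.map_id,
    CategoryTheory.Functor.map_comp, sub_eq_zero] at h2
  exact h2.symm

end Homotopy

section Presentation

variable {A B : Type u} [CommRing A] [CommRing B] [Algebra A B]

/-- The cotangent complex of an extension. -/
noncomputable abbrev ccHom (E : Algebra.Extension.{u} A B) :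
    ModuleCat.of B E.Cotangent ⟶ ModuleCat.of B E.CotangentSpace :=
  ModuleCat.ofHom E.cotangentComplex

variable {E E' : Algebra.Extension.{u} A B}

theorem comm_hom (φ : E.Hom E') :
    ModuleCat.ofHom (Algebra.Extension.Cotangent.map φ) ≫ ccHom E' =
      ccHom E ≫ ModuleCat.ofHom (Algebra.Extension.CotangentSpace.map φ) :=
  ModuleCat.hom_ext (LinearMap.ext fun z => (Algebra.Extension.CotangentSpace.map_cotangentComplex φ z).symm)

theorem comp_eq_id (φ : E.Hom E') (ψ : E'.Hom E) :
    DerivedCategory.Q.map (mapTwo _ _ (comm_hom φ)) ≫ DerivedCategory.Q.map (mapTwo _ _ (comm_hom ψ)) =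
      𝟙 _ := by
  refine toD_comp_eq_id (comm_hom φ) (comm_hom ψ)
    (ModuleCat.ofHom ((Algebra.Extension.Hom.id E).sub (ψ.comp φ))) ?_ ?_
  · refine ModuleCat.hom_ext (LinearMap.ext fun z => ?_)
    have hs := LinearMap.congr_fun
      (Algebra.Extension.Cotangent.map_sub_map (Algebra.Extension.Hom.id E) (ψ.comp φ)) z
    simp only [LinearMap.sub_apply, LinearMap.comp_apply, Algebra.Extension.Cotangent.map_id,
      Algebra.Extension.Cotangent.map_comp, LinearMap.id_apply] at hs
    exact hs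
  · refine ModuleCat.hom_ext (LinearMap.ext fun z => ?_)
    have hs := LinearMap.congr_fun
      (Algebra.Extension.CotangentSpace.map_sub_map (Algebra.Extension.Hom.id E) (ψ.comp φ)) z
    simp only [LinearMap.sub_apply, LinearMap.comp_apply, Algebra.Extension.CotangentSpace.map_id,
      Algebra.Extension.CotangentSpace.map_comp, LinearMap.id_apply,
      LinearMap.restrictScalars_apply] at hs
    exact hs

/-- Two presentations mapping to each other give isomorphic objects of `D(B)`. -/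
noncomputable def toDIso (φ : E.Hom E') (ψ : E'.Hom E) :
    DRing.toD (NLKillLib.two (ccHom E)) ≅ DRing.toD (NLKillLib.two (ccHom E')) where
  hom := DerivedCategory.Q.map (mapTwo _ _ (comm_hom φ))
  inv := DerivedCategory.Q.map (mapTwo _ _ (comm_hom ψ))
  hom_inv_id := comp_eq_id φ ψ
  inv_hom_id := comp_eq_id ψ φ

/-- The naive cotangent complex of a local complete intersection is perfect of amplitude `[-1, 0]`. -/
theorem exists_model (h : LCI.IsLCI A B) :
    ∃ E : DRing.Cx B, DRing.VanishesOutside E (-1) 0 ∧ DRing.TermwiseFiniteProjective E ∧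
      Nonempty (DRing.toD E ≅ LCI.NL A B) := by
  obtain ⟨-, n, f, hf, hreg⟩ := h
  have hfX : f = MvPolynomial.aeval fun i => f (MvPolynomial.X i) := MvPolynomial.aeval_unique f
  let G₀ : Algebra.Generators A B (Fin n) :=
    Algebra.Generators.ofSurjective (fun i => f (MvPolynomial.X i)) (by rwa [← hfX])
  let G : Algebra.Generators A B B := Algebra.Generators.self A B
  let E₀ := G₀.toExtension
  have hker : E₀.ker = RingHom.ker f.toRingHom := by
    refine G₀.ker_eq_ker_aeval_val.trans ?_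
    rw [show MvPolynomial.aeval G₀.val = f from hfX.symm]
    rfl
  obtain ⟨hfin, hproj⟩ := projective_cotangent E₀ (hker ▸ hreg)
  have hfree : Module.Free B E₀.CotangentSpace := Module.Free.of_basis G₀.cotangentSpaceBasis
  have hfinS : Module.Finite B E₀.CotangentSpace := Module.Finite.of_basis G₀.cotangentSpaceBasis
  let C := NLKillLib.two (ccHom E₀)
  have hX : ∀ i : ℤ, i ≠ -1 → i ≠ 0 → IsZero (C.X i) := fun i h₀ h₁ =>
    HomologicalComplex.isZero_double_X _ _ i h₀ h₁
  refine ⟨C, fun i hi => hX i (by omega) (by omega), fun i => ?_, ⟨toDIso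
    (Algebra.Generators.defaultHom G₀ G).toExtensionHom
    (Algebra.Generators.defaultHom G G₀).toExtensionHom⟩⟩
  by_cases h₀ : i = -1
  · subst h₀
    exact ⟨Module.Finite.equiv (NLKillLib.e₀ (ccHom E₀)).toLinearEquiv.symm,
      Module.Projective.of_equiv (NLKillLib.e₀ (ccHom E₀)).toLinearEquiv.symm⟩
  by_cases h₁ : i = 0
  · subst h₁
    exact ⟨Module.Finite.equiv (NLKillLib.e₁ (ccHom E₀)).toLinearEquiv.symm,
      Module.Projective.of_equiv (NLKillLib.e₁ (ccHom E₀)).toLinearEquiv.symm⟩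
  have : Subsingleton (C.X i) := ModuleCat.subsingleton_of_isZero (hX i h₀ h₁)
  exact ⟨inferInstance, inferInstance⟩

end Presentation

end NLPerfLib
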